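import Cfsg.Agent.ThreeTransposition.Base.Bipartite

/-!
The case in which two neighbours of some member have different neighbours: one Petersen graph and the
symmetric group of degree five.
-/

set_option autoImplicit false
set_option linter.unusedSectionVars false
set_option maxSynthPendingDepth 8
set_option synthInstance.maxSize 4000

namespace Cfsg.Lib.ThreeTrBase

open Cfsg Cfsg.Lib.ThreeTr

/-- The Petersen graph has no proper colouring of its edges with three colours. -/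
theorem petersen_colour :
    ∀ u : Fin 3, u ≠ 0 → ∀ u' : Fin 3, u' ≠ 0 → u' ≠ u →
    ∀ v : Fin 3, v ≠ 1 → ∀ v' : Fin 3, v' ≠ 1 → v' ≠ v →
    ∀ w : Fin 3, w ≠ 2 → ∀ w' : Fin 3, w' ≠ 2 → w' ≠ w →
    ∀ fa : Fin 3, fa ≠ u → fa ≠ w →
    ∀ fb : Fin 3, fb ≠ u → fb ≠ fa → fb ≠ v →
    ∀ ga : Fin 3, ga ≠ u' → ga ≠ w' →
    ∀ gb : Fin 3, gb ≠ u' → gb ≠ ga → gb ≠ v' →
    ∀ ab : Fin 3, ab ≠ w → ab ≠ fa → ab ≠ v' → ab ≠ gb →
    ∀ ba : Fin 3, ba ≠ v → ba ≠ fb → ba ≠ w' → ba ≠ ga → False := by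
  decide +kernel

variable {G : Type*} [Group G] [Finite G] {D : Set G}
variable (H : Base D)
include H

theorem nb_eq_of_common {d e e' f : G} (hd : d ∈ D) (he : e ∈ nb D d) (he' : e' ∈ nb D d) (hfd : f ≠ d)
    (hf : f ∈ nb D e) (hf' : f ∈ nb D e') : nb D e = nb D e' := by
  have hde : d ∈ nb D e := nb_symm hd he
  have hde' : d ∈ nb D e' := nb_symm hd he'
  ext w
  constructor
  · intro hw
    rcases (H.triangle he.1).2.2 d hde f hf hfd.symm w hw with rfl | rfl | rfl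
    · exact hde'
    · exact hf'
    · exact H.nb_nb he'.1 hde' hf'
  · intro hw
    rcases (H.triangle he'.1).2.2 d hde' f hf' hfd.symm w hw with rfl | rfl | rfl
    · exact hde
    · exact hf
    · exact H.nb_nb he.1 hde hf

/-- If two neighbours have the same neighbours, then so does the third. -/
theorem nb_eq_third {d e e' : G} (hd : d ∈ D) (he : e ∈ nb D d) (he' : e' ∈ nb D d)
    (hne : e ≠ e') (h : nb D e = nb D e') {w : G} (hw : w ∈ nb D d) : nb D w = nb D e := by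
  rcases (H.triangle hd).2.2 e he e' he' hne w hw with rfl | rfl | rfl
  · rfl
  · exact h.symm
  have hfix : ∀ y ∈ nb D e, e * y * e = y := fun y hy => by rw [hy.2.2.eq, mul_assoc, H.sq he.1, mul_one]
  have hee : ∀ y : G, e * (e * y * e) * e = y := fun y => by
    rw [show e * (e * y * e) * e = (e * e) * y * (e * e) by simp only [mul_assoc], H.sq he.1, one_mul, mul_one]
  ext y
  constructor
  · intro hy
    have h1 := H.conj_nb he.1 hy
    rw [hee, ← h] at h1
    have h2 := hfix _ h1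
    rw [hee] at h2
    rwa [← h2] at h1
  · intro hy
    have h1 := H.conj_nb he.1 (h ▸ hy : y ∈ nb D e')
    rwa [hfix y hy] at h1

set_option maxHeartbeats 1000000 in
theorem petersen (hU : ¬ Uniform D) :
    Nonempty (↥(Subgroup.closure D) ≃* Equiv.Perm (Fin 5)) := by
  classical
  simp only [Uniform, not_forall] at hU
  obtain ⟨d, hd, e₁, he₁, e₂, he₂, y₀, hy₀, hy₀'⟩ := hU
  have h12 : e₁ ≠ e₂ := fun h => hy₀' (h ▸ hy₀)
  -- two neighbours of `d` have only `d` as a common neighbour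
  have inter : ∀ {p q w : G}, p ∈ nb D d → q ∈ nb D d → p ≠ q → w ∈ nb D p → w ∈ nb D q → w = d := by
    intro p q w hp hq hpq hwp hwq
    by_contra hwd
    have h := nb_eq_of_common H hd hp hq hwd hwp hwq
    exact hy₀' (by rwa [nb_eq_third H hd hp hq hpq h he₂, ← nb_eq_third H hd hp hq hpq h he₁])
  have hd2 := H.sq hd
  have he₁2 := H.sq he₁.1
  have he₂2 := H.sq he₂.1
  set e₃ := e₁ * e₂ * e₁ with he₃def
  have he₃ : e₃ ∈ nb D d := H.nb_nb hd he₁ he₂
  have n12 := (H.triangle hd).2.1 e₁ he₁ e₂ he₂ h12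
  have b12 : e₂ * e₁ * e₂ = e₃ := (braid H.tr he₁.1 he₂.1 n12).symm
  have h13 : e₁ ≠ e₃ := fun h => h12 (by
    have h1 := congrArg (fun z => e₁ * z * e₁) h
    simp only [he₃def] at h1
    rw [he₁2, one_mul, show e₁ * (e₁ * e₂ * e₁) * e₁ = (e₁ * e₁) * e₂ * (e₁ * e₁) by simp only [mul_assoc],
      he₁2, one_mul, mul_one] at h1
    exact h1)
  have h23 : e₂ ≠ e₃ := fun h => h12 (by
    have h1 : e₂ * e₂ * e₂ = e₂ * e₁ * e₂ := by rw [b12, ← h, he₂2, one_mul]
    exact (mul_left_cancel (mul_right_cancel h1)).symm)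
  have he₃2 := H.sq he₃.1
  have hde₁ : d ∈ nb D e₁ := nb_symm hd he₁
  have hde₂ : d ∈ nb D e₂ := nb_symm hd he₂
  have hde₃ : d ∈ nb D e₃ := nb_symm hd he₃
  obtain ⟨f, hf, hfd, hf', hf'd, hf'f, -⟩ := H.exists_three he₁.1 hde₁
  set f' := d * f * d with hf'def
  have conj_e : ∀ {t z : G}, t ∈ D → Commute t z → t * z * t = z := fun {t z} ht h => by
    rw [h.eq, mul_assoc, H.sq ht, mul_one]
  have conj2 : ∀ {t : G} (z : G), t ∈ D → t * (t * z * t) * t = z := fun {t} z ht => by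
    rw [show t * (t * z * t) * t = (t * t) * z * (t * t) by simp only [mul_assoc], H.sq ht, one_mul, mul_one]
  set a := e₂ * f' * e₂ with hadef
  set b := e₃ * f' * e₃ with hbdef
  have ha : a ∈ nb D e₃ := by
    have := H.conj_nb he₂.1 hf'
    rwa [b12] at this
  have e31 : e₃ * e₁ * e₃ = e₂ := by
    rw [he₃def, show e₁ * e₂ * e₁ * e₁ * (e₁ * e₂ * e₁) = e₁ * e₂ * ((e₁ * e₁) * e₁) * e₂ * e₁ by
      simp only [mul_assoc], he₁2, one_mul]
    calc e₁ * e₂ * e₁ * e₂ * e₁ = e₁ * (e₂ * e₁ * e₂) * e₁ := by simp only [mul_assoc]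
      _ = e₁ * (e₁ * e₂ * e₁) * e₁ := by rw [b12]
      _ = e₂ := conj2 _ he₁.1
  have hb : b ∈ nb D e₂ := by
    have := H.conj_nb he₃.1 hf'
    rwa [e31] at this
  have hd_conj : ∀ {t : G}, t ∈ nb D d → t * d * t = d := fun ht => conj_e ht.1 ht.2.2.symm
  have hbd : b ≠ d := fun h => hf'd (by
    have h1 := congrArg (fun z => e₃ * z * e₃) h
    simp only [hbdef, conj2 _ he₃.1, hd_conj he₃] at h1
    exact h1)
  have had : a ≠ d := fun h => hf'd (by
    have h1 := congrArg (fun z => e₂ * z * e₂) h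
    simp only [hadef, conj2 _ he₂.1, hd_conj he₂] at h1
    exact h1)
  set a' := d * a * d with ha'def
  set b' := d * b * d with hb'def
  have ha' : a' ∈ nb D e₃ := H.nb_nb he₃.1 hde₃ ha
  have hb' : b' ∈ nb D e₂ := H.nb_nb he₂.1 hde₂ hb
  have hne_a : a ≠ a' := fun h => (H.triangle he₃.1).2.1 a ha d hde₃ had (by
    show a * d = d * a
    calc a * d = d * a * d * d := by rw [← ha'def, ← h]
      _ = d * a := by rw [mul_assoc (d * a), hd2, mul_one])
  have hne_b : b ≠ b' := fun h => (H.triangle he₂.1).2.1 b hb d hde₂ hbd (by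
    show b * d = d * b
    calc b * d = d * b * d * d := by rw [← hb'def, ← h]
      _ = d * b := by rw [mul_assoc (d * b), hd2, mul_one])
  have ha'd : a' ≠ d := fun h => had (by
    rw [← conj2 a hd, ← ha'def, h, hd2, one_mul])
  have hb'd : b' ≠ d := fun h => hbd (by
    rw [← conj2 b hd, ← hb'def, h, hd2, one_mul])
  have hne_ab : a ≠ b := fun h => had (inter he₃ he₂ h23.symm ha (h ▸ hb))
  have nf : ∀ {z : G}, z ∈ nb D d → z ≠ e₁ → ¬ Commute f z := fun {z} hz hne hc => by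
    rcases eq_or_ne z f with rfl | hzf
    · exact (H.triangle he₁.1).2.1 d hde₁ z hf hfd.symm hz.2.2
    · exact hfd (inter hz he₁ hne ⟨hf.1, hzf.symm, hc.symm⟩ hf)
  have nfd : ¬ Commute f d := (H.triangle he₁.1).2.1 f hf d hde₁ hfd
  have step' : ∀ {t : G}, t ∈ nb D d → d * t * f * (t * d) = t * f' * t := fun {t} ht => by
    rw [hf'def]
    calc d * t * f * (t * d) = (t * d) * f * (d * t) := by rw [ht.2.2.eq]
      _ = t * (d * f * d) * t := by simp only [mul_assoc]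
  have hfa : a ∈ nb D f := by
    have := H.step hd he₂ hf.1 nfd (nf he₂ h12.symm)
    rwa [step' he₂] at this
  have hfb : b ∈ nb D f := by
    have := H.step hd he₃ hf.1 nfd (nf he₃ h13.symm)
    rwa [step' he₃] at this
  have hfe : e₁ ∈ nb D f := nb_symm he₁.1 hf
  have hae : a ≠ e₁ := fun h => (H.triangle hd).2.1 e₁ he₁ e₃ he₃ h13 (h ▸ ha.2.2.symm)
  have hbe : b ≠ e₁ := fun h => n12 (h ▸ hb.2.2.symm)
  -- the neighbours of the ten members
  have Nd : ∀ w ∈ nb D d, w = e₁ ∨ w = e₂ ∨ w = e₃ := fun w hw => H.nb_three_of_eq hd he₁ he₂ he₃ h12 h13 h23 hw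
  have N1 : ∀ w ∈ nb D e₁, w = d ∨ w = f ∨ w = f' := fun w hw =>
    H.nb_three_of_eq he₁.1 hde₁ hf hf' hfd.symm hf'd.symm hf'f.symm hw
  have N2 : ∀ w ∈ nb D e₂, w = d ∨ w = b ∨ w = b' := fun w hw =>
    H.nb_three_of_eq he₂.1 hde₂ hb hb' hbd.symm hb'd.symm hne_b hw
  have N3 : ∀ w ∈ nb D e₃, w = d ∨ w = a ∨ w = a' := fun w hw =>
    H.nb_three_of_eq he₃.1 hde₃ ha ha' had.symm ha'd.symm hne_a hw
  have Nf : ∀ w ∈ nb D f, w = e₁ ∨ w = a ∨ w = b := fun w hw =>
    H.nb_three_of_eq hf.1 hfe hfa hfb hae.symm hbe.symm hne_ab hw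
  have tr : ∀ {t z z' p q r : G}, t ∈ D → t * z * t = z' → (∀ w ∈ nb D z, w = p ∨ w = q ∨ w = r) →
      ∀ w ∈ nb D z', w = t * p * t ∨ w = t * q * t ∨ w = t * r * t := by
    intro t z z' p q r ht hz hN w hw
    have := H.conj_nb ht hw
    rw [← hz, conj2 _ ht] at this
    rcases hN _ this with h | h | h <;> [left; (right; left); (right; right)] <;> rw [← h, conj2 _ ht]
  have Nf' : ∀ w ∈ nb D f', w = e₁ ∨ w = a' ∨ w = b' := by
    have := tr hd hf'def.symm Nf
    rwa [conj_e hd he₁.2.2, ← ha'def, ← hb'def] at this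
  have e2a' : e₂ * a' * e₂ = f := by
    rw [ha'def, show e₂ * (d * a * d) * e₂ = (e₂ * d) * a * (d * e₂) by simp only [mul_assoc], ← he₂.2.2.eq,
      show d * e₂ * a * (d * e₂) = d * e₂ * a * (e₂ * d) by rw [← he₂.2.2.eq], hadef,
      show d * e₂ * (e₂ * f' * e₂) * (e₂ * d) = d * ((e₂ * e₂) * f' * (e₂ * e₂)) * d by simp only [mul_assoc],
      he₂2, one_mul, mul_one, hf'def, conj2 _ hd]
  have e3b' : e₃ * b' * e₃ = f := by
    rw [hb'def, show e₃ * (d * b * d) * e₃ = (e₃ * d) * b * (d * e₃) by simp only [mul_assoc], ← he₃.2.2.eq,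
      show d * e₃ * b * (d * e₃) = d * e₃ * b * (e₃ * d) by rw [← he₃.2.2.eq], hbdef,
      show d * e₃ * (e₃ * f' * e₃) * (e₃ * d) = d * ((e₃ * e₃) * f' * (e₃ * e₃)) * d by simp only [mul_assoc],
      he₃2, one_mul, mul_one, hf'def, conj2 _ hd]
  have Na : ∀ w ∈ nb D a, w = e₃ ∨ w = f ∨ w = b' := by
    have := tr he₂.1 hadef.symm Nf'
    rwa [b12, e2a', conj_e he₂.1 hb'.2.2] at this
  have Nb : ∀ w ∈ nb D b, w = e₂ ∨ w = a' ∨ w = f := by
    have := tr he₃.1 hbdef.symm Nf'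
    rwa [e31, e3b', conj_e he₃.1 ha'.2.2] at this
  have Na' : ∀ w ∈ nb D a', w = e₃ ∨ w = f' ∨ w = b := by
    have := tr hd ha'def.symm Na
    rwa [conj_e hd he₃.2.2, ← hf'def, hb'def, conj2 _ hd] at this
  have Nb' : ∀ w ∈ nb D b', w = e₂ ∨ w = a ∨ w = f' := by
    have := tr hd hb'def.symm Nb
    rwa [conj_e hd he₂.2.2, ← hf'def, ha'def, conj2 _ hd] at this
  -- the remaining edges
  have hf'a' : a' ∈ nb D f' := H.conj_nb hd hfa
  have hf'b' : b' ∈ nb D f' := H.conj_nb hd hfb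
  have hab' : b' ∈ nb D a := by
    have h := H.conj_nb he₂.1 hf'b'
    rwa [← hadef, conj_e he₂.1 hb'.2.2] at h
  have hba' : a' ∈ nb D b := by
    have h := H.conj_nb he₃.1 hf'a'
    rwa [← hbdef, conj_e he₃.1 ha'.2.2] at h
  set S : Set G := {d, e₁, e₂, e₃, f, f', a, a', b, b'} with hSdef
  have hclosed : ∀ v ∈ S, v ∈ D ∧ ∀ w ∈ nb D v, w ∈ S := by
    simp only [hSdef, Set.mem_insert_iff, Set.mem_singleton_iff]
    rintro v (rfl | rfl | rfl | rfl | rfl | rfl | rfl | rfl | rfl | rfl)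
    · exact ⟨hd, fun w hw => by rcases Nd w hw with rfl | rfl | rfl <;> simp⟩
    · exact ⟨he₁.1, fun w hw => by rcases N1 w hw with rfl | rfl | rfl <;> simp⟩
    · exact ⟨he₂.1, fun w hw => by rcases N2 w hw with rfl | rfl | rfl <;> simp⟩
    · exact ⟨he₃.1, fun w hw => by rcases N3 w hw with rfl | rfl | rfl <;> simp⟩
    · exact ⟨hf.1, fun w hw => by rcases Nf w hw with rfl | rfl | rfl <;> simp⟩
    · exact ⟨hf'.1, fun w hw => by rcases Nf' w hw with rfl | rfl | rfl <;> simp⟩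
    · exact ⟨ha.1, fun w hw => by rcases Na w hw with rfl | rfl | rfl <;> simp⟩
    · exact ⟨ha'.1, fun w hw => by rcases Na' w hw with rfl | rfl | rfl <;> simp⟩
    · exact ⟨hb.1, fun w hw => by rcases Nb w hw with rfl | rfl | rfl <;> simp⟩
    · exact ⟨hb'.1, fun w hw => by rcases Nb' w hw with rfl | rfl | rfl <;> simp⟩
  have hsub : D ⊆ S := by
    intro x hx
    by_contra hxS
    have nc : ∀ v ∈ S, ¬ Commute x v := fun v hv hc =>
      hxS ((hclosed v hv).2 x ⟨hx, fun h => hxS (h ▸ hv), hc.symm⟩)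
    let col : G → G → G := fun u v => u * v * x * (v * u)
    have colmem : ∀ {u v : G}, u ∈ S → v ∈ S → v ∈ nb D u → col u v ∈ nb D x := fun hu hv h =>
      H.step (hclosed _ hu).1 h hx (nc _ hu) (nc _ hv)
    have colne : ∀ {u v v' : G}, u ∈ S → v ∈ S → v' ∈ S → v ∈ nb D u → v' ∈ nb D u → v ≠ v' →
        col u v ≠ col u v' := fun hu hv hv' h h' hne => H.step_ne (hclosed _ hu).1 h h' hx hne (nc _ hv) (nc _ hv')
    have colsymm : ∀ {u v : G}, v ∈ nb D u → col u v = col v u := fun {u v} h => by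
      show u * v * x * (v * u) = v * u * x * (u * v)
      rw [h.2.2.eq]
    have Sd : d ∈ S := by simp [hSdef]
    have S1 : e₁ ∈ S := by simp [hSdef]
    have S2 : e₂ ∈ S := by simp [hSdef]
    have S3 : e₃ ∈ S := by simp [hSdef]
    have Sf : f ∈ S := by simp [hSdef]
    have Sf' : f' ∈ S := by simp [hSdef]
    have Sa : a ∈ S := by simp [hSdef]
    have Sa' : a' ∈ S := by simp [hSdef]
    have Sb : b ∈ S := by simp [hSdef]
    have Sb' : b' ∈ S := by simp [hSdef]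
    have m1 := colmem Sd S1 he₁
    have m2 := colmem Sd S2 he₂
    have m3 := colmem Sd S3 he₃
    have p12 := colne Sd S1 S2 he₁ he₂ h12
    have p13 := colne Sd S1 S3 he₁ he₃ h13
    have p23 := colne Sd S2 S3 he₂ he₃ h23
    let code : G → Fin 3 := fun z => if z = col d e₁ then 0 else if z = col d e₂ then 1 else 2
    have code1 : code (col d e₁) = 0 := if_pos rfl
    have code2 : code (col d e₂) = 1 := by simp [code, p12.symm]
    have code3 : code (col d e₃) = 2 := by simp [code, p13.symm, p23.symm]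
    have codene : ∀ {z w : G}, z ∈ nb D x → w ∈ nb D x → z ≠ w → code z ≠ code w := by
      intro z w hz hw hzw
      rcases H.nb_three_of_eq hx m1 m2 m3 p12 p13 p23 hz with rfl | rfl | rfl <;>
        rcases H.nb_three_of_eq hx m1 m2 m3 p12 p13 p23 hw with rfl | rfl | rfl <;>
        first | exact absurd rfl hzw | (simp only [code1, code2, code3]; decide)
    have P : ∀ {u v v' : G}, u ∈ S → v ∈ S → v' ∈ S → v ∈ nb D u → v' ∈ nb D u → v ≠ v' →
        code (col u v) ≠ code (col u v') := fun hu hv hv' h h' hne =>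
      codene (colmem hu hv h) (colmem hu hv' h') (colne hu hv hv' h h' hne)
    have sd1 := colsymm he₁
    have sd2 := colsymm he₂
    have sd3 := colsymm he₃
    have hb'e₂ : e₂ ∈ nb D b' := nb_symm he₂.1 hb'
    have ha'e₃ : e₃ ∈ nb D a' := nb_symm he₃.1 ha'
    have hbf : f ∈ nb D b := nb_symm hf.1 hfb
    have haf : f ∈ nb D a := nb_symm hf.1 hfa
    have ha'f' : f' ∈ nb D a' := nb_symm hf'.1 hf'a'
    have hb'f' : f' ∈ nb D b' := nb_symm hf'.1 hf'b'
    have hb'a : a ∈ nb D b' := nb_symm ha.1 hab'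
    have ha'b : b ∈ nb D a' := nb_symm hb.1 hba'
    have hbe₂ : e₂ ∈ nb D b := nb_symm he₂.1 hb
    have hae₃ : e₃ ∈ nb D a := nb_symm he₃.1 ha
    have hf'e₁ : e₁ ∈ nb D f' := nb_symm he₁.1 hf'
    -- distinctness
    have ne_a'b' : a' ≠ b' := fun h => hne_ab (by rw [← conj2 a hd, ← conj2 b hd, ← ha'def, ← hb'def, h])
    have ne_a'e : a' ≠ e₁ := fun h => (H.triangle hd).2.1 e₁ he₁ e₃ he₃ h13 (h ▸ ha'.2.2.symm)
    have ne_b'e : b' ≠ e₁ := fun h => n12 (h ▸ hb'.2.2.symm)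
    have ne_fe₃ : f ≠ e₃ := fun h => (H.triangle hd).2.1 e₁ he₁ e₃ he₃ h13 (h ▸ hf.2.2)
    have ne_f'e₃ : f' ≠ e₃ := fun h => (H.triangle hd).2.1 e₁ he₁ e₃ he₃ h13 (h ▸ hf'.2.2)
    have ne_fe₂ : f ≠ e₂ := fun h => n12 (h ▸ hf.2.2)
    have ne_f'e₂ : f' ≠ e₂ := fun h => n12 (h ▸ hf'.2.2)
    have ne_b'e₃ : b' ≠ e₃ := fun h => (H.triangle hd).2.1 e₂ he₂ e₃ he₃ h23 (h ▸ hb'.2.2)
    have ne_ae₂ : a ≠ e₂ := fun h => (H.triangle hd).2.1 e₂ he₂ e₃ he₃ h23 (h ▸ ha.2.2.symm)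
    have ne_a'e₂ : a' ≠ e₂ := fun h => (H.triangle hd).2.1 e₂ he₂ e₃ he₃ h23 (h ▸ ha'.2.2.symm)
    have ne_be₃ : b ≠ e₃ := fun h => (H.triangle hd).2.1 e₂ he₂ e₃ he₃ h23 (h ▸ hb.2.2)
    have ne_fb' : f ≠ b' := fun h => hb'd (inter he₁ he₂ h12 (h ▸ hf) hb')
    have ne_fa' : f ≠ a' := fun h => ha'd (inter he₁ he₃ h13 (h ▸ hf) ha')
    have ne_af' : a ≠ f' := fun h => had (inter he₁ he₃ h13 (h ▸ hf') ha)
    have ne_bf' : b ≠ f' := fun h => hbd (inter he₁ he₂ h12 (h ▸ hf') hb)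
    refine petersen_colour (code (col e₁ f)) ?_ (code (col e₁ f')) ?_ ?_ (code (col e₂ b)) ?_
      (code (col e₂ b')) ?_ ?_ (code (col e₃ a)) ?_ (code (col e₃ a')) ?_ ?_
      (code (col f a)) ?_ ?_ (code (col f b)) ?_ ?_ ?_ (code (col f' a')) ?_ ?_
      (code (col f' b')) ?_ ?_ ?_ (code (col a b')) ?_ ?_ ?_ ?_ (code (col b a')) ?_ ?_ ?_ ?_
    · rw [← code1, sd1]; exact P S1 Sf Sd hf hde₁ hfd
    · rw [← code1, sd1]; exact P S1 Sf' Sd hf' hde₁ hf'd
    · exact P S1 Sf' Sf hf' hf hf'f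
    · rw [← code2, sd2]; exact P S2 Sb Sd hb hde₂ hbd
    · rw [← code2, sd2]; exact P S2 Sb' Sd hb' hde₂ hb'd
    · exact P S2 Sb' Sb hb' hb hne_b.symm
    · rw [← code3, sd3]; exact P S3 Sa Sd ha hde₃ had
    · rw [← code3, sd3]; exact P S3 Sa' Sd ha' hde₃ ha'd
    · exact P S3 Sa' Sa ha' ha hne_a.symm
    · rw [colsymm hf]; exact P Sf Sa S1 hfa hfe hae
    · rw [colsymm hfa, colsymm ha]; exact P Sa Sf S3 haf hae₃ ne_fe₃
    · rw [colsymm hf]; exact P Sf Sb S1 hfb hfe hbe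
    · exact P Sf Sb Sa hfb hfa hne_ab.symm
    · rw [colsymm hfb, colsymm hb]; exact P Sb Sf S2 hbf hbe₂ ne_fe₂
    · rw [colsymm hf']; exact P Sf' Sa' S1 hf'a' hf'e₁ ne_a'e
    · rw [colsymm hf'a', colsymm ha']; exact P Sa' Sf' S3 ha'f' ha'e₃ ne_f'e₃
    · rw [colsymm hf']; exact P Sf' Sb' S1 hf'b' hf'e₁ ne_b'e
    · exact P Sf' Sb' Sa' hf'b' hf'a' ne_a'b'.symm
    · rw [colsymm hf'b', colsymm hb']; exact P Sb' Sf' S2 hb'f' hb'e₂ ne_f'e₂
    · rw [colsymm ha]; exact P Sa Sb' S3 hab' hae₃ ne_b'e₃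
    · rw [colsymm hfa]; exact P Sa Sb' Sf hab' haf ne_fb'.symm
    · rw [colsymm hab', colsymm hb']; exact P Sb' Sa S2 hb'a hb'e₂ ne_ae₂
    · rw [colsymm hab', colsymm hf'b']; exact P Sb' Sa Sf' hb'a hb'f' ne_af'
    · rw [colsymm hb]; exact P Sb Sa' S2 hba' hbe₂ ne_a'e₂
    · rw [colsymm hfb]; exact P Sb Sa' Sf hba' hbf ne_fa'.symm
    · rw [colsymm hba', colsymm ha']; exact P Sa' Sb S3 ha'b ha'e₃ ne_be₃
    · rw [colsymm hba', colsymm hf'a']; exact P Sa' Sb Sf' ha'b ha'f' ne_bf'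
  -- the isomorphism
  obtain ⟨cs, hcs⟩ := Cfsg.Agent.S2530.result 4
  let g : Fin 4 → G := ![d, f, e₂, e₁]
  have gD : ∀ i, g i ∈ D := fun i => by fin_cases i <;> [exact hd; exact hf.1; exact he₂.1; exact he₁.1]
  have c2' : ∀ {u v : G}, u ∈ D → v ∈ D → Commute u v → (u * v) ^ 2 = 1 := fun {u v} hu hv h => by
    rw [h.mul_pow, pow_two, pow_two, H.sq hu, H.sq hv, one_mul]
  have c3' : ∀ {u v : G}, u ∈ D → v ∈ D → ¬ Commute u v → (u * v) ^ 3 = 1 :=
    fun hu hv h => cube_of_not_commute H.tr hu hv h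
  have nf2 := nf he₂ h12.symm
  have hg : (CoxeterMatrix.A 4).IsLiftable g := by
    intro i j
    have c11 : ∀ {u : G}, u ∈ D → (u * u) ^ 1 = 1 := fun hu => by rw [pow_one, H.sq hu]
    fin_cases i <;> fin_cases j <;>
      first
      | exact c11 (gD _)
      | exact c2' hd he₂.1 he₂.2.2
      | exact c2' he₂.1 hd he₂.2.2.symm
      | exact c2' hd he₁.1 he₁.2.2
      | exact c2' he₁.1 hd he₁.2.2.symm
      | exact c2' hf.1 he₁.1 hf.2.2.symm
      | exact c2' he₁.1 hf.1 hf.2.2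
      | exact c3' hd hf.1 (fun h => nfd h.symm)
      | exact c3' hf.1 hd nfd
      | exact c3' hf.1 he₂.1 nf2
      | exact c3' he₂.1 hf.1 (fun h => nf2 h.symm)
      | exact c3' he₂.1 he₁.1 (fun h => n12 h.symm)
      | exact c3' he₁.1 he₂.1 n12
  let φ : Equiv.Perm (Fin 5) →* G := cs.lift ⟨g, hg⟩
  have hφ : ∀ i : Fin 4, φ (Equiv.swap i.castSucc i.succ) = g i := fun i => by
    rw [← hcs i]; exact cs.lift_apply_simple hg i
  have hrange : φ.range = Subgroup.closure D := by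
    apply le_antisymm
    · rw [MonoidHom.range_eq_map, ← cs.subgroup_closure_range_simple, MonoidHom.map_closure,
        Subgroup.closure_le]
      rintro _ ⟨_, ⟨i, rfl⟩, rfl⟩
      rw [hcs, hφ]
      exact Subgroup.subset_closure (gD i)
    · rw [Subgroup.closure_le]
      have r : ∀ i : Fin 4, g i ∈ φ.range := fun i => ⟨_, hφ i⟩
      have rd : d ∈ φ.range := r 0
      have rf : f ∈ φ.range := r 1
      have r2 : e₂ ∈ φ.range := r 2
      have r1 : e₁ ∈ φ.range := r 3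
      have r3 : e₃ ∈ φ.range := mul_mem (mul_mem r1 r2) r1
      have rf' : f' ∈ φ.range := mul_mem (mul_mem rd rf) rd
      have ra : a ∈ φ.range := mul_mem (mul_mem r2 rf') r2
      have rb : b ∈ φ.range := mul_mem (mul_mem r3 rf') r3
      intro z hz
      have := hsub hz
      simp only [hSdef, Set.mem_insert_iff, Set.mem_singleton_iff] at this
      rcases this with rfl | rfl | rfl | rfl | rfl | rfl | rfl | rfl | rfl | rfl
      exacts [rd, r1, r2, r3, rf, rf', ra, mul_mem (mul_mem rd ra) rd, rb, mul_mem (mul_mem rd rb) rd]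
  have hinj : Function.Injective φ := by
    rw [← MonoidHom.ker_eq_bot_iff]
    have hn : (φ.ker.subgroupOf (alternatingGroup (Fin 5))).Normal := Subgroup.normal_subgroupOf
    have := alternatingGroup.isSimpleGroup (α := Fin 5) (by simp)
    rcases hn.eq_bot_or_eq_top with h | h
    · rw [eq_bot_iff]
      intro k hk
      have key : ∀ k : Equiv.Perm (Fin 5),
          (∀ i : Fin 4, k * Equiv.swap i.castSucc i.succ = Equiv.swap i.castSucc i.succ * k) → k = 1 := by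
        decide +kernel
      refine Subgroup.mem_bot.2 (key k fun i => ?_)
      set s := Equiv.swap i.castSucc i.succ
      have hm : k * s * k⁻¹ * s⁻¹ ∈ alternatingGroup (Fin 5) := by
        rw [Equiv.Perm.mem_alternatingGroup]
        simp only [map_mul, map_inv]
        exact mul_inv_eq_one.2 (by rw [mul_comm, inv_mul_cancel_left])
      have hk' : k * s * k⁻¹ * s⁻¹ ∈ φ.ker := by
        rw [MonoidHom.mem_ker] at hk ⊢
        simp [hk]
      have : (⟨_, hm⟩ : alternatingGroup (Fin 5)) ∈ φ.ker.subgroupOf (alternatingGroup (Fin 5)) := hk'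
      rw [h, Subgroup.mem_bot] at this
      have h1 : k * s * k⁻¹ * s⁻¹ = 1 := congrArg Subtype.val this
      calc k * s = (k * s * k⁻¹ * s⁻¹) * (s * k) := by simp [mul_assoc]
        _ = s * k := by rw [h1, one_mul]
    · exfalso
      have hm : Equiv.swap (0 : Fin 5) 1 * Equiv.swap 1 2 ∈ alternatingGroup (Fin 5) := by
        rw [Equiv.Perm.mem_alternatingGroup]; decide
      have hk : (⟨_, hm⟩ : alternatingGroup (Fin 5)) ∈ φ.ker.subgroupOf (alternatingGroup (Fin 5)) := by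
        rw [h]; trivial
      have hk' : φ (Equiv.swap (0 : Fin 5) 1 * Equiv.swap 1 2) = 1 := hk
      rw [map_mul, show Equiv.swap (0 : Fin 5) 1 = Equiv.swap (0 : Fin 4).castSucc (0 : Fin 4).succ from rfl,
        show Equiv.swap (1 : Fin 5) 2 = Equiv.swap (1 : Fin 4).castSucc (1 : Fin 4).succ from rfl, hφ, hφ] at hk'
      exact hfd (by
        have := eq_inv_of_mul_eq_one_right (show d * f = 1 from hk')
        rw [inv_eq H.tr hd] at this
        exact this)
  exact ⟨((MonoidHom.ofInjective hinj).trans (MulEquiv.subgroupCongr hrange)).symm⟩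

end Cfsg.Lib.ThreeTrBase
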