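import Cfsg.Agent.ThreeTransposition.Elementary
import Cfsg.Agent.S2530
import Cfsg.Prelude.Def_Solvable
import Mathlib

/-!
The base case of Fischer's theorem: every member of `D` commutes with exactly three further members, which
generate a symmetric group of degree three, and the centraliser of a member has a largest normal 3-subgroup
of order three. Then `D` is one Petersen graph or one complete bipartite graph on six vertices.
-/

set_option autoImplicit false
set_option linter.unusedSectionVars false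
set_option maxSynthPendingDepth 8
set_option synthInstance.maxSize 4000
set_option synthInstance.maxHeartbeats 200000

namespace Cfsg.Lib.ThreeTrBase

open Cfsg Cfsg.Lib.ThreeTr

variable {G : Type*} [Group G]

/-- The members of `D` other than `d` commuting with `d`. -/
def nb (D : Set G) (d : G) : Set G := {y | y ∈ D ∧ y ≠ d ∧ Commute d y}

variable {D : Set G}

theorem mem_conj (hD : IsThreeTranspositionSet D) (hconj : ∀ g : G, ∀ d ∈ D, g * d * g⁻¹ ∈ D) {x y : G}
    (hx : x ∈ D) (hy : y ∈ D) : x * y * x ∈ D := by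
  have := hconj x y hy
  rwa [inv_eq hD hx] at this

theorem commute_conj {g x y : G} (h : Commute x y) : Commute (g * x * g⁻¹) (g * y * g⁻¹) :=
  h.map (MulAut.conj g).toMonoidHom

theorem nb_conj (hconj : ∀ g : G, ∀ d ∈ D, g * d * g⁻¹ ∈ D) {g d y : G} (h : y ∈ nb D d) :
    g * y * g⁻¹ ∈ nb D (g * d * g⁻¹) :=
  ⟨hconj g y h.1, fun e => h.2.1 (mul_left_cancel (mul_right_cancel e)), commute_conj h.2.2⟩

theorem nb_symm {d e : G} (hd : d ∈ D) (h : e ∈ nb D d) : d ∈ nb D e := ⟨hd, h.2.1.symm, h.2.2.symm⟩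

/-- A member commutes with the product of two members only trivially. -/
theorem not_commute_rot (hD : IsThreeTranspositionSet D) {y e f : G} (hy : y ∈ D) (he : e ∈ D) (hf : f ∈ D)
    (hef : e ≠ f) (h1 : ¬ Commute y e) (h2 : ¬ Commute y f) : ¬ Commute y (e * f) := by
  intro hc
  have hy2 := sq_eq_one hD hy
  have he2 := sq_eq_one hD he
  have hf2 := sq_eq_one hD hf
  have b1 := braid hD hy he h1
  have b2 := braid hD hy hf h2
  have h : (e * y * e) * (f * y * f) = e * f := by
    rw [← b1, ← b2]
    calc y * e * y * (y * f * y) = y * e * (y * y) * f * y := by simp only [mul_assoc]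
      _ = y * (e * f) * y := by rw [hy2, mul_one]; simp only [mul_assoc]
      _ = e * f * y * y := by rw [hc.eq]
      _ = e * f := by rw [mul_assoc, hy2, mul_one]
  apply hef
  have h' : y * e * (f * y * f) = f := by
    apply mul_left_cancel (a := e)
    rw [← h]; simp only [mul_assoc]
  have h'' : y * (e * f) * y = 1 := by
    apply mul_right_cancel (b := f)
    rw [one_mul]
    calc y * (e * f) * y * f = y * e * (f * y * f) := by simp only [mul_assoc]
      _ = f := h'
  rw [hc.eq, mul_assoc, hy2, mul_one, mul_eq_one_iff_eq_inv, inv_eq hD hf] at h''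
  exact h''

/-- The hypotheses of the base case. -/
structure Base (D : Set G) : Prop where
  tr : IsThreeTranspositionSet D
  inv : ∀ g : G, ∀ d ∈ D, g * d * g⁻¹ ∈ D
  local' : ∀ d ∈ D, Nonempty (↥(Subgroup.closure {y : G | y ∈ D ∧ y ≠ d ∧ Commute d y}) ≃* Equiv.Perm (Fin 3))

section
variable (H : Base D)
include H

theorem Base.conj_mem {x y : G} (hx : x ∈ D) (hy : y ∈ D) : x * y * x ∈ D := mem_conj H.tr H.inv hx hy

theorem Base.sq {x : G} (hx : x ∈ D) : x * x = 1 := sq_eq_one H.tr hx

theorem Base.conj_nb {x d y : G} (hx : x ∈ D) (h : y ∈ nb D d) : x * y * x ∈ nb D (x * d * x) := by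
  have := nb_conj H.inv (g := x) h
  rwa [inv_eq H.tr hx] at this

/-- The neighbours of a member are three, pairwise not commuting, and closed under conjugation. -/
theorem Base.triangle {d : G} (hd : d ∈ D) :
    (∃ y ∈ nb D d, ∃ z ∈ nb D d, y ≠ z) ∧ (∀ y ∈ nb D d, ∀ z ∈ nb D d, y ≠ z → ¬ Commute y z) ∧
      ∀ y ∈ nb D d, ∀ z ∈ nb D d, y ≠ z → ∀ w ∈ nb D d, w = y ∨ w = z ∨ w = y * z * y := by
  obtain ⟨e⟩ := H.local' d hd
  set S := Subgroup.closure (nb D d) with hS
  have e' : ↥S ≃* Equiv.Perm (Fin 3) := e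
  have hnot : ∀ y ∈ nb D d, ∀ z ∈ nb D d, y ≠ z → ¬ Commute y z := by
    intro y hy z hz hne hc
    set a : ↥S := ⟨y, Subgroup.subset_closure hy⟩ with ha
    set b : ↥S := ⟨z, Subgroup.subset_closure hz⟩ with hb
    have key : ∀ σ τ : Equiv.Perm (Fin 3), σ * σ = 1 → τ * τ = 1 → σ ≠ 1 → τ ≠ 1 → σ * τ = τ * σ → σ = τ := by
      decide +kernel
    have h1 : ∀ {u : G} (hu : u ∈ nb D d), e' ⟨u, Subgroup.subset_closure hu⟩ ≠ 1 := fun {u} hu h => by
      have : u = 1 := congrArg Subtype.val (e'.map_eq_one_iff.mp h)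
      exact absurd (H.tr.1 u hu.1) (by rw [this, orderOf_one]; decide)
    have := key (e' a) (e' b) (by rw [← map_mul, e'.map_eq_one_iff]; exact Subtype.ext (H.sq hy.1))
      (by rw [← map_mul, e'.map_eq_one_iff]; exact Subtype.ext (H.sq hz.1)) (h1 hy) (h1 hz)
      (by rw [← map_mul, ← map_mul]; exact congrArg e' (Subtype.ext hc.eq))
    exact hne (congrArg Subtype.val (e'.injective this))
  refine ⟨?_, hnot, ?_⟩
  · by_contra h
    push Not at h
    have hcomm : ∀ x ∈ nb D d, ∀ y ∈ nb D d, x * y = y * x := fun x hx y hy => by rw [h x hx y hy]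
    have : IsMulCommutative ↥S := Subgroup.isMulCommutative_closure hcomm
    have hcs : ∀ x y : ↥S, x * y = y * x := fun x y => this.is_comm.comm x y
    have := congrArg e' (hcs (e'.symm (Equiv.swap 0 1)) (e'.symm (Equiv.swap 1 2)))
    simp only [map_mul, MulEquiv.apply_symm_apply] at this
    exact absurd this (by decide +kernel)
  · intro y hy z hz hne w hw
    have hw' : y * z * y ∈ S := S.mul_mem (S.mul_mem (Subgroup.subset_closure hy) (Subgroup.subset_closure hz))
      (Subgroup.subset_closure hy)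
    have key : ∀ σ τ ρ : Equiv.Perm (Fin 3), σ * σ = 1 → τ * τ = 1 → ρ * ρ = 1 → σ ≠ 1 → τ ≠ 1 → ρ ≠ 1 →
        σ ≠ τ → ρ = σ ∨ ρ = τ ∨ ρ = σ * τ * σ := by decide +kernel
    have h1 : ∀ {u : G} (hu : u ∈ nb D d), e' ⟨u, Subgroup.subset_closure hu⟩ ≠ 1 := fun {u} hu h => by
      have : u = 1 := congrArg Subtype.val (e'.map_eq_one_iff.mp h)
      exact absurd (H.tr.1 u hu.1) (by rw [this, orderOf_one]; decide)
    have h2 : ∀ {u : G} (hu : u ∈ nb D d),
        e' ⟨u, Subgroup.subset_closure hu⟩ * e' ⟨u, Subgroup.subset_closure hu⟩ = 1 := fun {u} hu => by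
      rw [← map_mul, e'.map_eq_one_iff]; exact Subtype.ext (H.sq hu.1)
    rcases key _ _ _ (h2 hy) (h2 hz) (h2 hw) (h1 hy) (h1 hz) (h1 hw)
        (fun h => hne (congrArg Subtype.val (e'.injective h))) with h | h | h
    · exact Or.inl (congrArg Subtype.val (e'.injective h))
    · exact Or.inr (Or.inl (congrArg Subtype.val (e'.injective h)))
    · refine Or.inr (Or.inr ?_)
      rw [← map_mul, ← map_mul] at h
      exact congrArg Subtype.val (e'.injective h)

theorem Base.nb_nb {d e e' : G} (_hd : d ∈ D) (he : e ∈ nb D d) (he' : e' ∈ nb D d) :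
    e * e' * e ∈ nb D d := by
  have h := H.conj_nb he.1 he'
  rwa [show e * d * e = d by rw [← he.2.2.eq, mul_assoc, H.sq he.1, mul_one]] at h

/-- The three neighbours. -/
theorem Base.exists_three {d e : G} (hd : d ∈ D) (he : e ∈ nb D d) :
    ∃ f, f ∈ nb D d ∧ f ≠ e ∧ e * f * e ∈ nb D d ∧ e * f * e ≠ e ∧ e * f * e ≠ f ∧
      ∀ w ∈ nb D d, w = e ∨ w = f ∨ w = e * f * e := by
  obtain ⟨⟨y, hy, z, hz, hyz⟩, hnc, hall⟩ := H.triangle hd
  obtain ⟨f, hf, hfe⟩ : ∃ f ∈ nb D d, f ≠ e := by
    rcases eq_or_ne y e with h | h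
    · exact ⟨z, hz, fun h' => hyz (h.trans h'.symm)⟩
    · exact ⟨y, hy, h⟩
  refine ⟨f, hf, hfe, H.nb_nb hd he hf, fun h => hfe ?_, fun h => hnc e he f hf hfe.symm ?_,
    fun w hw => hall e he f hf hfe.symm w hw⟩
  · have h1 := congrArg (fun x => e * x * e) h
    simp only [← mul_assoc, H.sq he.1, one_mul] at h1
    rwa [mul_assoc, H.sq he.1, mul_one] at h1
  · show e * f = f * e
    calc e * f = e * f * e * e := by rw [mul_assoc (e * f), H.sq he.1, mul_one]
      _ = f * e := by rw [h]

/-- A commuting pair moves a member not commuting with either to a neighbour. -/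
theorem Base.step {d e x : G} (hd : d ∈ D) (he : e ∈ nb D d) (hx : x ∈ D)
    (h1 : ¬ Commute x d) (h2 : ¬ Commute x e) : d * e * x * (e * d) ∈ nb D x := by
  have hD := H.tr
  have hd2 := H.sq hd
  have he2 := H.sq he.1
  have hmem : d * e * x * (e * d) ∈ D := by
    have := H.conj_mem hd (H.conj_mem he.1 hx)
    simpa only [mul_assoc] using this
  set y := e * x * e with hy
  have hy' : d * e * x * (e * d) = d * y * d := by rw [hy]; simp only [mul_assoc]
  -- `x e x = e x e` commutes with nothing new, and `d` conjugates it to a neighbour of `x`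
  have key : (x * d * x) * e * (x * d * x) = e * (x * d * x) * e :=
    not_commute_conj hD hd he.1 hx he.2.2 h1 h2
  refine ⟨hmem, fun h => ?_, ?_⟩
  · have hc : Commute x (d * e) := by
      show x * (d * e) = d * e * x
      calc x * (d * e) = d * e * x * (e * d) * (d * e) := by rw [h]
        _ = d * e * x * (e * (d * d) * e) := by simp only [mul_assoc]
        _ = d * e * x := by rw [hd2, mul_one, he2, mul_one]
    exact h1 ((commute_pair_iff hD hd he.1 hx he.2.1.symm he.2.2).mp hc).1
  · rw [hy']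
    have hxd := braid hD hx hd h1
    have hxe : y = x * e * x := (braid hD hx he.1 h2).symm
    show x * (d * y * d) = d * y * d * x
    have hx2 := H.sq hx
    have e1 : x * (d * (x * e * x) * d) = d * x * d * e * (x * d) := by
      rw [← hxd]; simp only [mul_assoc]
    have e2 : d * (x * e * x) * d * x = d * x * e * (x * d * x) := by simp only [mul_assoc]
    rw [hxe, e1, e2, hxd]
    calc d * x * d * e * (x * d) = d * x * (d * e) * (x * d) := by simp only [mul_assoc]
      _ = d * x * (e * d) * (x * d) := by rw [he.2.2.eq]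
      _ = d * x * e * (d * x * d) := by simp only [mul_assoc]

/-- Two edges at one vertex move a member to different neighbours. -/
theorem Base.step_ne {d e e' x : G} (hd : d ∈ D) (he : e ∈ nb D d) (he' : e' ∈ nb D d) (hx : x ∈ D)
    (hne : e ≠ e') (h1 : ¬ Commute x e) (h2 : ¬ Commute x e') :
    d * e * x * (e * d) ≠ d * e' * x * (e' * d) := by
  intro h
  have hd2 := H.sq hd
  have he2 := H.sq he.1
  have he'2 := H.sq he'.1
  have h3 : e * x * e = e' * x * e' := by
    have h4 : d * (e * x * e) * d = d * (e' * x * e') * d := by simpa only [mul_assoc] using h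
    exact mul_left_cancel (mul_right_cancel h4)
  apply not_commute_rot H.tr hx he'.1 he.1 hne.symm h2 h1
  show x * (e' * e) = e' * e * x
  calc x * (e' * e) = e' * (e' * x * e') * e := by simp only [← mul_assoc, he'2, one_mul]
    _ = e' * e * x * (e * e) := by rw [← h3]; simp only [mul_assoc]
    _ = e' * e * x := by rw [he2, mul_one]

theorem Base.nb_three_of_eq {x a b c w : G} (hx : x ∈ D) (ha : a ∈ nb D x) (hb : b ∈ nb D x) (hc : c ∈ nb D x)
    (hab : a ≠ b) (hac : a ≠ c) (hbc : b ≠ c) (hw : w ∈ nb D x) : w = a ∨ w = b ∨ w = c := by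
  have hall := (H.triangle hx).2.2 a ha b hb hab
  have hc' : c = a * b * a := by
    rcases hall c hc with h | h | h
    · exact absurd h.symm hac
    · exact absurd h.symm hbc
    · exact h
  rw [hc']
  exact hall w hw

end

end Cfsg.Lib.ThreeTrBase
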