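import Cfsg.Agent.ThreeTransposition.Base.Basic

/-!
The case in which the neighbours of each member all have the same neighbours: one complete bipartite
graph on six vertices, and the symmetric square of degree three.
-/

set_option autoImplicit false
set_option linter.unusedSectionVars false
set_option maxSynthPendingDepth 8
set_option synthInstance.maxSize 4000

namespace Cfsg.Lib.ThreeTrBase

open Cfsg Cfsg.Lib.ThreeTr

variable {G : Type*} [Group G] [Finite G] {D : Set G}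

/-- All neighbours of a member have the same neighbours. -/
def Uniform (D : Set G) : Prop :=
  ∀ d ∈ D, ∀ e ∈ nb D d, ∀ e' ∈ nb D d, ∀ y : G, y ∈ nb D e → y ∈ nb D e'

/-- The products of two neighbours of a member. -/
def rots (D : Set G) : Set G := {r | ∃ t ∈ D, ∃ u ∈ nb D t, ∃ v ∈ nb D t, r = u * v}

variable (H : Base D)
include H

theorem rots_conj {r : G} (hr : r ∈ rots D) (g : G) : g * r * g⁻¹ ∈ rots D := by
  obtain ⟨t, ht, u, hu, v, hv, rfl⟩ := hr
  exact ⟨_, H.inv g t ht, _, nb_conj H.inv hu, _, nb_conj H.inv hv, by group⟩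

theorem rot_cube {r : G} (hr : r ∈ rots D) : r ^ 3 = 1 := by
  obtain ⟨t, ht, u, hu, v, hv, rfl⟩ := hr
  rcases eq_or_ne u v with rfl | h
  · rw [H.sq hu.1, one_pow]
  · exact cube_of_not_commute H.tr hu.1 hv.1 ((H.triangle ht).2.1 u hu v hv h)

theorem rot_inv {r : G} (hr : r ∈ rots D) : r⁻¹ ∈ rots D := by
  obtain ⟨t, ht, u, hu, v, hv, rfl⟩ := hr
  exact ⟨t, ht, v, hv, u, hu, by rw [mul_inv_rev, inv_eq H.tr hu.1, inv_eq H.tr hv.1]⟩

theorem rot_mem_nb (hU : Uniform D) {r s x : G} (hr : r ∈ rots D) (hs : s ∈ D) (hx : x ∈ nb D s) :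
    r * x * r⁻¹ ∈ nb D s := by
  obtain ⟨t, ht, u, hu, v, hv, rfl⟩ := hr
  have hu2 := H.sq hu.1
  have hv2 := H.sq hv.1
  have ht2 := H.sq ht
  have hsx : s ∈ nb D x := nb_symm hs hx
  rw [show u * v * x * (u * v)⁻¹ = u * (v * x * v) * u by
    rw [mul_inv_rev, inv_eq H.tr hu.1, inv_eq H.tr hv.1]; simp only [mul_assoc]]
  have hyD : u * (v * x * v) * u ∈ D := H.conj_mem hu.1 (H.conj_mem hv.1 hx.1)
  have hfix : Commute x u → Commute x v → u * (v * x * v) * u = x := fun h1 h2 => by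
    rw [← h2.eq, mul_assoc x v v, hv2, mul_one, ← h1.eq, mul_assoc, hu2, mul_one]
  by_cases hxt : Commute x t
  · rcases eq_or_ne x t with rfl | hne
    · rw [hfix hu.2.2 hv.2.2]; exact hx
    · have hxn : x ∈ nb D t := ⟨hx.1, hne, hxt.symm⟩
      have hy : u * (v * x * v) * u ∈ nb D t := H.nb_nb ht hu (H.nb_nb ht hv hxn)
      exact nb_symm hyD (hU t ht x hxn _ hy s hsx)
  by_cases hxu : Commute x u
  · have hne : x ≠ u := fun h => hxt (h ▸ hu.2.2.symm)
    rw [hfix hxu (hU t ht u hu v hv x ⟨hx.1, hne, hxu.symm⟩).2.2.symm]; exact hx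
  by_cases hxv : Commute x v
  · have hne : x ≠ v := fun h => hxt (h ▸ hv.2.2.symm)
    rw [hfix (hU t ht v hv u hu x ⟨hx.1, hne, hxv.symm⟩).2.2.symm hxv]; exact hx
  have h1 := H.step ht hu hx.1 hxt hxu
  have h2 := nb_conj H.inv (g := t * u) (H.step ht hv hx.1 hxt hxv)
  have e1 : t * u * x * (t * u)⁻¹ = t * u * x * (u * t) := by
    rw [mul_inv_rev, inv_eq H.tr ht, inv_eq H.tr hu.1]
  have e2 : t * u * (t * v * x * (v * t)) * (t * u)⁻¹ = u * (v * x * v) * u := by
    rw [mul_inv_rev, inv_eq H.tr ht, inv_eq H.tr hu.1]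
    calc t * u * (t * v * x * (v * t)) * (u * t) = (t * u * t) * (v * x * v) * (t * u * t) := by
          simp only [mul_assoc]
      _ = u * (v * x * v) * u := by rw [hu.2.2.eq, mul_assoc u, ht2, mul_one]
  rw [e1, e2] at h2
  exact nb_symm hyD (hU _ h1.1 x (nb_symm hx.1 h1) _ h2 s hsx)

theorem comm_rots_fix (hU : Uniform D) :
    ∀ g ∈ Subgroup.closure (rots D), ∀ h ∈ Subgroup.closure (rots D), ∀ x ∈ D, Commute (g * h * g⁻¹ * h⁻¹) x := by
  classical
  intro g hg h hh x hx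
  obtain ⟨⟨s, hs, -, -, -⟩, -, -⟩ := H.triangle hx
  let X := {y : G // y ∈ nb D s}
  have hX : Nat.card X = 3 := by
    obtain ⟨f, hf, hfe, h3, h3e, h3f, hall⟩ := H.exists_three hs.1 (nb_symm hx hs)
    show Nat.card ↥(nb D s) = 3
    rw [Nat.card_coe_set_eq, Set.ncard_eq_three]
    refine ⟨x, f, x * f * x, hfe.symm, h3e.symm, h3f.symm, Set.ext fun w => ⟨fun hw => ?_, ?_⟩⟩
    · rcases hall w hw with h | h | h <;> simp [h]
    · rintro (rfl | rfl | rfl)
      · exact nb_symm hx hs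
      · exact hf
      · exact h3
  let T : Subgroup G :=
    { carrier := {k | ∀ y, y ∈ nb D s ↔ k * y * k⁻¹ ∈ nb D s}
      one_mem' := fun y => by simp
      mul_mem' := fun {a b} ha hb y => by
        rw [show a * b * y * (a * b)⁻¹ = a * (b * y * b⁻¹) * a⁻¹ by group]
        exact (hb y).trans (ha _)
      inv_mem' := fun {a} ha y => by
        have := (ha (a⁻¹ * y * a⁻¹⁻¹)).symm
        rwa [show a * (a⁻¹ * y * a⁻¹⁻¹) * a⁻¹ = y by group] at this }
  have hT : Subgroup.closure (rots D) ≤ T := by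
    rw [Subgroup.closure_le]
    intro r hr y
    refine ⟨rot_mem_nb H hU hr hs.1, fun h => ?_⟩
    have := rot_mem_nb H hU (rot_inv H hr) hs.1 h
    rwa [show r⁻¹ * (r * y * r⁻¹) * r⁻¹⁻¹ = y by group] at this
  let φ : ↥(Subgroup.closure (rots D)) →* Equiv.Perm X :=
    MonoidHom.mk' (fun k =>
      { toFun := fun y => ⟨(k : G) * y.1 * (k : G)⁻¹, (hT k.2 y.1).1 y.2⟩
        invFun := fun y => ⟨(k : G)⁻¹ * y.1 * (k : G), by
          refine (hT k.2 _).2 ?_
          rw [show (k : G) * ((k : G)⁻¹ * y.1 * (k : G)) * (k : G)⁻¹ = y.1 by group]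
          exact y.2⟩
        left_inv := fun y => Subtype.ext (by show _ = y.1; group)
        right_inv := fun y => Subtype.ext (by show _ = y.1; group) })
      fun a b => Equiv.ext fun y => Subtype.ext (by
        show ((a * b : ↥(Subgroup.closure (rots D))) : G) * _ * _ = _
        rw [Subgroup.coe_mul]; simp [mul_assoc])
  haveI : Fintype X := Fintype.ofFinite _
  have hsign : ∀ k, Equiv.Perm.sign (φ k) = 1 := by
    rintro ⟨k, hk⟩
    induction hk using Subgroup.closure_induction with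
    | mem r hr =>
      have h3 : (⟨r, Subgroup.subset_closure hr⟩ : ↥(Subgroup.closure (rots D))) ^ 3 = 1 :=
        Subtype.ext (rot_cube H hr)
      have := congrArg (fun k => Equiv.Perm.sign (φ k)) h3
      simp only [map_pow, map_one] at this
      rcases Int.units_eq_one_or (Equiv.Perm.sign (φ ⟨r, Subgroup.subset_closure hr⟩)) with h | h
      · exact h
      · rw [h] at this; exact absurd this (by decide)
    | one =>
      show Equiv.Perm.sign (φ 1) = 1
      rw [map_one, map_one]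
    | mul a b ha hb iha ihb =>
      show Equiv.Perm.sign (φ (⟨a, ha⟩ * ⟨b, hb⟩)) = 1
      rw [map_mul, map_mul, iha, ihb, mul_one]
    | inv a ha iha =>
      show Equiv.Perm.sign (φ (⟨a, ha⟩⁻¹)) = 1
      rw [map_inv, map_inv, iha, inv_one]
  have hcard : Nat.card ↥(alternatingGroup X) = 3 := by
    haveI : Nontrivial X := Finite.one_lt_card_iff_nontrivial.1 (by omega)
    rw [nat_card_alternatingGroup, hX]; rfl
  haveI : Fact (Nat.Prime 3) := ⟨Nat.prime_three⟩
  haveI : IsCyclic ↥(alternatingGroup X) := isCyclic_of_prime_card hcard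
  have hA := (IsCyclic.commGroup (α := ↥(alternatingGroup X))).mul_comm
    ⟨φ ⟨g, hg⟩, Equiv.Perm.mem_alternatingGroup.2 (hsign _)⟩
    ⟨φ ⟨h, hh⟩, Equiv.Perm.mem_alternatingGroup.2 (hsign _)⟩
  have h1 : φ ⟨g, hg⟩ * φ ⟨h, hh⟩ = φ ⟨h, hh⟩ * φ ⟨g, hg⟩ := congrArg Subtype.val hA
  have h2 : φ (⟨g, hg⟩ * ⟨h, hh⟩ * ⟨g, hg⟩⁻¹ * ⟨h, hh⟩⁻¹) = 1 := by
    simp only [map_mul, map_inv, h1]; group
  have h3 := congrArg (fun σ : Equiv.Perm X => (σ ⟨x, nb_symm hx hs⟩).1) h2
  have h4 : (g * h * g⁻¹ * h⁻¹) * x * (g * h * g⁻¹ * h⁻¹)⁻¹ = x := h3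
  exact mul_inv_eq_iff_eq_mul.1 h4

theorem closure_rots_cube (hU : Uniform D) : ∀ g ∈ Subgroup.closure (rots D), g ^ 3 = 1 := by
  have hle : ∀ k ∈ Subgroup.closure (rots D), k ∈ Subgroup.closure D := fun k hk => by
    refine (Subgroup.closure_le _).2 ?_ hk
    rintro r ⟨t, -, u, hu, v, hv, rfl⟩
    exact mul_mem (Subgroup.subset_closure hu.1) (Subgroup.subset_closure hv.1)
  have hcent : ∀ g ∈ Subgroup.closure (rots D), ∀ h ∈ Subgroup.closure (rots D), ∀ k ∈ Subgroup.closure (rots D),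
      Commute (g * h * g⁻¹ * h⁻¹) k := by
    intro g hg h hh k hk
    have : k ∈ Subgroup.centralizer {g * h * g⁻¹ * h⁻¹} := (Subgroup.closure_le _).2
      (fun x hx => Subgroup.mem_centralizer_singleton_iff.2 (comm_rots_fix H hU g hg h hh x hx).eq.symm) (hle k hk)
    exact (Subgroup.mem_centralizer_singleton_iff.1 this).symm
  intro g hg
  induction hg using Subgroup.closure_induction with
  | mem r hr => exact rot_cube H hr
  | one => exact one_pow 3
  | mul a b ha hb iha ihb =>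
    set c := b * a * b⁻¹ * a⁻¹ with hc
    have hca : Commute c a := hcent b hb a ha a ha
    have hcb : Commute c b := hcent b hb a ha b hb
    have e1 : b * a = c * (a * b) := by rw [hc]; group
    have hn : ∀ n : ℕ, b ^ n * a = c ^ n * (a * b ^ n) := by
      intro n
      induction n with
      | zero => simp
      | succ n ih =>
        rw [pow_succ' b, mul_assoc, ih, ← mul_assoc, ← (hcb.pow_left n).eq, mul_assoc, ← mul_assoc b a, e1,
          pow_succ]
        simp only [mul_assoc]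
    have hc3 : c ^ 3 = 1 := by
      have := hn 3
      rw [ihb, one_mul, mul_one] at this
      exact mul_eq_right.1 this.symm
    have la : ∀ y, a * (c * y) = c * (a * y) := fun y => by rw [← mul_assoc, ← hca.eq, mul_assoc]
    have lb : ∀ y, b * (c * y) = c * (b * y) := fun y => by rw [← mul_assoc, ← hcb.eq, mul_assoc]
    have lba : ∀ y, b * (a * y) = c * (a * (b * y)) := fun y => by rw [← mul_assoc, e1]; simp only [mul_assoc]
    have l3 : ∀ {z : G}, z ^ 3 = 1 → ∀ y, z * (z * (z * y)) = y := fun {z} hz y => by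
      rw [← mul_assoc, ← mul_assoc, ← pow_two, ← pow_succ, hz, one_mul]
    calc (a * b) ^ 3 = a * (b * (a * (b * (a * (b * 1))))) := by
          simp only [pow_succ, pow_zero, one_mul, mul_one, mul_assoc]
      _ = c * (c * (c * (a * (a * (a * (b * (b * (b * 1)))))))) := by simp only [la, lb, lba]
      _ = 1 := by rw [l3 hc3, l3 iha, l3 ihb]
  | inv a ha iha => rw [inv_pow, iha, inv_one]

theorem no_outside (hU : Uniform D) {d e₁ x : G} (hd : d ∈ D) (he₁ : e₁ ∈ nb D d) (hx : x ∈ D)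
    (hxd : ∀ f ∈ nb D e₁, ¬ Commute x f) (hxe : ∀ f ∈ nb D d, ¬ Commute x f)
    (hcore : Nat.card (Cfsg.pCore 3 ↥(Subgroup.centralizer ({x} : Set G))) = 3) : False := by
  have hde : d ∈ nb D e₁ := nb_symm hd he₁
  have hxd0 : ¬ Commute x d := hxd d hde
  obtain ⟨f, hf, hfe, hg, hge, hgf, hall⟩ := H.exists_three hd he₁
  obtain ⟨d₂, hd₂, hd₂d, -, -, -, -⟩ := H.exists_three he₁.1 hde
  set g := e₁ * f * e₁ with hgdef
  have z1 := H.step hd he₁ hx hxd0 (hxe _ he₁)
  have z2 := H.step hd hf hx hxd0 (hxe _ hf)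
  have z3 := H.step hd hg hx hxd0 (hxe _ hg)
  have hd₂e : e₁ ∈ nb D d₂ := nb_symm he₁.1 hd₂
  have z' := H.step hd₂.1 hd₂e hx (hxd _ hd₂) (hxe _ he₁)
  have hne : d₂ * e₁ * x * (e₁ * d₂) ≠ d * e₁ * x * (e₁ * d) := by
    have := H.step_ne he₁.1 hd₂ hde hx hd₂d (hxd _ hd₂) hxd0
    rwa [show e₁ * d₂ * x * (d₂ * e₁) = d₂ * e₁ * x * (e₁ * d₂) by rw [hd₂e.2.2.eq],
      show e₁ * d * x * (d * e₁) = d * e₁ * x * (e₁ * d) by rw [he₁.2.2.eq]] at this
  obtain ⟨e, he, hee, hz⟩ : ∃ e ∈ nb D d, e ≠ e₁ ∧ d₂ * e₁ * x * (e₁ * d₂) = d * e * x * (e * d) := by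
    rcases H.nb_three_of_eq hx z1 z2 z3 (H.step_ne hd he₁ hf hx hfe.symm (hxe _ he₁) (hxe _ hf))
      (H.step_ne hd he₁ hg hx hge.symm (hxe _ he₁) (hxe _ hg))
      (H.step_ne hd hf hg hx hgf.symm (hxe _ hf) (hxe _ hg)) z' with h | h | h
    · exact absurd h hne
    · exact ⟨f, hf, hfe, h⟩
    · exact ⟨g, hg, hge, h⟩
  have hd2 := H.sq hd
  have he2 := H.sq he.1
  have he₁2 := H.sq he₁.1
  have hd₂2 := H.sq hd₂.1
  have hx2 := H.sq hx
  have hed₂ : Commute e d₂ := (hU d hd e₁ he₁ e he d₂ hd₂).2.2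
  have c1 : Commute d e₁ := he₁.2.2
  have c2 : Commute d e := he.2.2
  have c3 : Commute d₂ e₁ := hd₂e.2.2
  set w := d * d₂ * (e * e₁) with hw
  have hwx : x * w = w * x := by
    have h1 : e * d * (d₂ * e₁) = w := by
      rw [hw, ← c2.eq]
      calc d * e * (d₂ * e₁) = d * (e * d₂) * e₁ := by simp only [mul_assoc]
        _ = _ := by rw [hed₂.eq]; simp only [mul_assoc]
    rw [← h1]
    have h2 := congrArg (fun y => e * d * y * (d₂ * e₁)) hz
    calc x * (e * d * (d₂ * e₁)) = e * (d * d) * e * x * (e * d * (d₂ * e₁)) := by rw [hd2, mul_one, he2, one_mul]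
      _ = e * d * (d * e * x * (e * d)) * (d₂ * e₁) := by simp only [mul_assoc]
      _ = e * d * (d₂ * e₁ * x * (e₁ * d₂)) * (d₂ * e₁) := h2.symm
      _ = e * d * (d₂ * e₁) * x * (e₁ * (d₂ * d₂) * e₁) := by simp only [mul_assoc]
      _ = _ := by rw [hd₂2, mul_one, he₁2, mul_one]
  set R := Subgroup.closure (rots D) with hR
  have hwR : w ∈ R := mul_mem (Subgroup.subset_closure ⟨e₁, he₁.1, d, hde, d₂, hd₂, rfl⟩)
    (Subgroup.subset_closure ⟨d, hd, e, he, e₁, he₁, rfl⟩)
  -- the products of two neighbours of `x` differ from `w`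
  have hnot : ∀ z ∈ nb D x, ∀ z₀ ∈ nb D x, z ≠ z₀ → w ≠ z * z₀ := by
    intro z hz z₀ hz₀ hzne hwz
    have hxdx : x * d * x = d * x * d := braid H.tr hx hd hxd0
    have hxex : x * e₁ * x = e₁ * x * e₁ := braid H.tr hx he₁.1 (hxe _ he₁)
    have hxwx : x * w * x = w := by rw [hwx, mul_assoc, hx2, mul_one]
    have hxwx' : x * w⁻¹ * x = w⁻¹ := by
      have := congrArg Inv.inv hxwx
      simp only [mul_inv_rev, inv_eq H.tr hx, ← mul_assoc] at this
      exact this
    set u := x * (d * w * d) * x with hu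
    have hud : d * u * d = u := by
      calc d * u * d = (d * x * d) * w * (d * x * d) := by simp only [hu, mul_assoc]
        _ = x * d * (x * w * x) * d * x := by rw [← hxdx]; simp only [mul_assoc]
        _ = u := by rw [hxwx]; simp only [hu, mul_assoc]
    have hwd : d * w * d = d₂ * d * (e * e₁) := by
      have h1 : Commute d (e * e₁) := c2.mul_right c1
      calc d * w * d = (d * d) * d₂ * ((e * e₁) * d) := by simp only [hw, mul_assoc]
        _ = _ := by rw [hd2, one_mul, ← h1.eq, ← mul_assoc]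
    have hwe : e₁ * (d * w * d) * e₁ = w⁻¹ := by
      rw [hwd, hw]
      have h1 : Commute e₁ (d₂ * d) := c3.symm.mul_right c1.symm
      have h2 : (d * d₂ * (e * e₁))⁻¹ = e₁ * e * (d₂ * d) := by
        rw [mul_inv_rev, mul_inv_rev, mul_inv_rev, inv_eq H.tr he₁.1, inv_eq H.tr he.1, inv_eq H.tr hd,
          inv_eq H.tr hd₂.1]
      rw [h2]
      calc e₁ * (d₂ * d * (e * e₁)) * e₁ = e₁ * (d₂ * d) * e * (e₁ * e₁) := by simp only [mul_assoc]
        _ = (d₂ * d) * (e₁ * e) := by rw [he₁2, mul_one, h1.eq, mul_assoc]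
        _ = _ := by
          exact ((c3.mul_left c1).mul_right (hed₂.symm.mul_left c2)).eq
    have hue : e₁ * u * e₁ = u := by
      calc e₁ * u * e₁ = e₁ * x * e₁ * (e₁ * (d * w * d) * e₁) * (e₁ * x * e₁) := by
            simp only [hu, mul_assoc]
            simp only [← mul_assoc]
            simp only [mul_assoc _ e₁ e₁, he₁2, mul_one]
        _ = x * e₁ * (x * w⁻¹ * x) * e₁ * x := by rw [hwe, ← hxex]; simp only [mul_assoc]
        _ = x * (e₁ * (e₁ * (d * w * d) * e₁) * e₁) * x := by rw [hxwx', hwe]; simp only [mul_assoc]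
        _ = u := by
          simp only [hu, ← mul_assoc]
          simp only [mul_assoc _ e₁ e₁, he₁2, mul_one]
    have hgx : x * d * x * (x * d)⁻¹ = d := by
      rw [mul_inv_rev, inv_eq H.tr hx, inv_eq H.tr hd, hxdx]
      simp only [mul_assoc]
      rw [← mul_assoc d d x, hd2, one_mul, hx2, mul_one]
    have hp := nb_conj H.inv (g := x * d) hz
    have hp₀ := nb_conj H.inv (g := x * d) hz₀
    rw [hgx] at hp hp₀
    have hpne : x * d * z * (x * d)⁻¹ ≠ x * d * z₀ * (x * d)⁻¹ :=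
      fun h => hzne (mul_left_cancel (mul_right_cancel h))
    have hup : u = x * d * z * (x * d)⁻¹ * (x * d * z₀ * (x * d)⁻¹) := by
      rw [hu, hwz, show x * d * z * (x * d)⁻¹ * (x * d * z₀ * (x * d)⁻¹) = x * d * (z * z₀) * (x * d)⁻¹ by group,
        mul_inv_rev, inv_eq H.tr hx, inv_eq H.tr hd]
      simp only [mul_assoc]
    set p := x * d * z * (x * d)⁻¹
    set q := x * d * z₀ * (x * d)⁻¹
    have hc : Commute e₁ (p * q) := by
      show e₁ * (p * q) = p * q * e₁
      rw [← hup]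
      calc e₁ * u = e₁ * u * (e₁ * e₁) := by rw [he₁2, mul_one]
        _ = (e₁ * u * e₁) * e₁ := by simp only [mul_assoc]
        _ = u * e₁ := by rw [hue]
    have hpq := (H.triangle hd).2.1 p hp q hp₀ hpne
    by_cases hp1 : e₁ = p
    · apply hpq
      have := hc.eq
      rw [hp1] at this
      show p * q = q * p
      have h' := congrArg (fun y => p * y) this
      simp only [← mul_assoc, H.sq hp.1, one_mul] at h'
      exact h'
    by_cases hq1 : e₁ = q
    · apply hpq
      have := hc.eq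
      rw [hq1, mul_assoc p q q, H.sq hp₀.1, mul_one] at this
      show p * q = q * p
      calc p * q = q * (q * (p * q)) := by rw [← mul_assoc q q, H.sq hp₀.1, one_mul]
        _ = q * p := by rw [this]
    exact not_commute_rot H.tr he₁.1 hp.1 hp₀.1 hpne ((H.triangle hd).2.1 e₁ he₁ p hp hp1)
      ((H.triangle hd).2.1 e₁ he₁ q hp₀ hq1) hc
  have hw1 : w ≠ 1 := by
    intro h
    have hc : Commute e₁ (d * d₂) := c1.symm.mul_right c3.symm
    have h1 : d * d₂ = e₁ * e := by
      rw [hw] at h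
      rw [mul_eq_one_iff_eq_inv, mul_inv_rev, inv_eq H.tr he₁.1, inv_eq H.tr he.1] at h
      exact h
    rw [h1] at hc
    apply (H.triangle hd).2.1 e₁ he₁ e he hee.symm
    exact mul_left_cancel (hc.eq.trans (mul_assoc _ _ _))
  -- the normal 3-subgroup `R ∩ C(x)`
  set C := Subgroup.centralizer ({x} : Set G)
  have hRn : R.Normal := by
    refine ⟨fun n hn g => ?_⟩
    have : R ≤ R.comap (MulAut.conj g).toMonoidHom :=
      (Subgroup.closure_le _).2 fun r hr => Subgroup.subset_closure (rots_conj H hr g)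
    exact this hn
  have hle : R.subgroupOf C ≤ Cfsg.pCore 3 ↥C :=
    le_sSup ⟨Subgroup.normal_subgroupOf, fun k => ⟨1, Subtype.ext (Subtype.ext (by
      simpa using closure_rots_cube H hU _ (Subgroup.mem_subgroupOf.1 k.2)))⟩⟩
  obtain ⟨⟨z, hz0, z₀, hz₀, hzne⟩, hznc, -⟩ := H.triangle hx
  have hzz : ∀ {a b : G}, a ∈ nb D x → b ∈ nb D x → a * b ∈ R ∧ a * b ∈ C := fun ha hb =>
    ⟨Subgroup.subset_closure ⟨x, hx, _, ha, _, hb, rfl⟩,
      Subgroup.mem_centralizer_singleton_iff.2 (ha.2.2.mul_right hb.2.2).eq.symm⟩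
  have hsub : ({1, w, z * z₀, z₀ * z} : Set G) ⊆ ↑((Cfsg.pCore 3 ↥C).map C.subtype) := by
    have hmem : ∀ k : G, k ∈ R → k ∈ C → k ∈ (Cfsg.pCore 3 ↥C).map C.subtype := fun k h1 h2 =>
      ⟨⟨k, h2⟩, hle (Subgroup.mem_subgroupOf.2 h1), rfl⟩
    rintro k (rfl | rfl | rfl | rfl)
    · exact one_mem _
    · exact hmem _ hwR (Subgroup.mem_centralizer_singleton_iff.2 hwx.symm)
    · exact hmem _ (hzz hz0 hz₀).1 (hzz hz0 hz₀).2
    · exact hmem _ (hzz hz₀ hz0).1 (hzz hz₀ hz0).2
  have h1 : ∀ {a b : G}, a ∈ nb D x → b ∈ nb D x → a ≠ b → (1 : G) ≠ a * b := fun ha hb h e => h (by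
    rw [eq_comm, mul_eq_one_iff_eq_inv, inv_eq H.tr hb.1] at e
    exact e)
  have hcard : ({1, w, z * z₀, z₀ * z} : Set G).ncard = 4 := by
    rw [Set.ncard_insert_of_notMem (by simp [hw1.symm, h1 hz0 hz₀ hzne, h1 hz₀ hz0 hzne.symm]),
      Set.ncard_insert_of_notMem (by simp [hnot z hz0 z₀ hz₀ hzne, hnot z₀ hz₀ z hz0 hzne.symm]),
      Set.ncard_pair (fun e => hznc z hz0 z₀ hz₀ hzne e)]
  have := Set.ncard_le_ncard hsub (Set.toFinite _)
  rw [hcard, ← Nat.card_coe_set_eq, SetLike.coe_sort_coe,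
    Subgroup.card_map_of_injective C.subtype_injective, hcore] at this
  omega

/-- The uniform case. -/
theorem bipartite (hU : Uniform D) (hne : D.Nonempty)
    (hcore : ∀ x ∈ D, Nat.card (Cfsg.pCore 3 ↥(Subgroup.centralizer ({x} : Set G))) = 3) :
    Nonempty (↥(Subgroup.closure D) ≃* Equiv.Perm (Fin 3) × Equiv.Perm (Fin 3)) := by
  obtain ⟨d, hd⟩ := hne
  obtain ⟨⟨e, he, -, -, -⟩, -, -⟩ := H.triangle hd
  have hD : D = nb D d ∪ nb D e := by
    refine Set.Subset.antisymm (fun x hx => ?_) (Set.union_subset (fun y hy => hy.1) fun y hy => hy.1)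
    by_contra hout
    refine no_outside H hU hd he hx (fun f hf hc => hout ?_) (fun f hf hc => hout ?_) (hcore x hx)
    · rcases eq_or_ne x f with rfl | hne
      · exact Or.inr hf
      · exact Or.inl (hU e he.1 f hf d (nb_symm hd he) x ⟨hx, hne, hc.symm⟩)
    · rcases eq_or_ne x f with rfl | hne
      · exact Or.inl hf
      · exact Or.inr (hU d hd f hf e he x ⟨hx, hne, hc.symm⟩)
  set P := Subgroup.closure (nb D d) with hP
  set Q := Subgroup.closure (nb D e) with hQ
  obtain ⟨eP⟩ : Nonempty (↥P ≃* Equiv.Perm (Fin 3)) := H.local' d hd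
  obtain ⟨eQ⟩ : Nonempty (↥Q ≃* Equiv.Perm (Fin 3)) := H.local' e he.1
  have hcomm : ∀ a ∈ P, ∀ b ∈ Q, Commute a b := by
    have h1 : P ≤ Subgroup.centralizer (nb D e) := (Subgroup.closure_le _).2 fun a ha b hb =>
      (hU d hd e he a ha b hb).2.2.symm.eq
    have h2 : Q ≤ Subgroup.centralizer (P : Set G) := (Subgroup.closure_le _).2 fun b hb a ha =>
      ((h1 ha) b hb).symm
    exact fun a ha b hb => h2 hb a ha
  let φ : ↥P × ↥Q →* G := MonoidHom.noncommCoprod P.subtype Q.subtype fun a b => hcomm a a.2 b b.2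
  have hinj : Function.Injective φ := by
    rw [injective_iff_map_eq_one]
    rintro ⟨a, b⟩ h
    have hab : (a : G) * b = 1 := h
    have haQ : (a : G) ∈ Q := by rw [mul_eq_one_iff_eq_inv.1 hab]; exact Q.inv_mem b.2
    have hcen : eP a = 1 := by
      have key : ∀ σ : Equiv.Perm (Fin 3), (∀ τ, σ * τ = τ * σ) → σ = 1 := by decide +kernel
      refine key _ fun τ => ?_
      obtain ⟨c, rfl⟩ := eP.surjective τ
      rw [← eP.map_mul, ← eP.map_mul]
      exact congrArg eP (Subtype.ext (hcomm c c.2 a haQ).eq.symm)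
    have ha : a = 1 := (eP.map_eq_one_iff).1 hcen
    subst ha
    rw [Subgroup.coe_one, one_mul] at hab
    exact Prod.ext rfl (Subtype.ext hab)
  have hrange : φ.range = Subgroup.closure D := by
    rw [hD, Subgroup.closure_union]
    refine (MonoidHom.noncommCoprod_range _ _ _).trans ?_
    rw [Subgroup.range_subtype, Subgroup.range_subtype]
  exact ⟨((MonoidHom.ofInjective hinj).trans (MulEquiv.subgroupCongr hrange)).symm.trans
    (MulEquiv.prodCongr eP eQ)⟩

end Cfsg.Lib.ThreeTrBase
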